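/-
S2858, helper45's claim (N), package NA: `J(Q₂) ≰ Q₁ ⊓ Q₂` (from `StepZero`).
-/
import Cfsg.Agent.Lib.Helper45.S3Amal.NDefs
import Cfsg.Agent.Lib.Helper74.Amal.StepZero

set_option autoImplicit false

namespace Cfsg.Agent.Lib.Helper74.S3Amal

open Cfsg.Agent.Lib.Helper71.Sym Cfsg.Agent.Lib.Helper45.S3Amal

universe u

theorem pkgNA : PkgNA.{u} := by
  intro G _ P₁ P₂ T Q₁ Q₂ a₁ a₂ hcore hnD
  haveI : Finite ↥P₂ := a₂.fin
  have hQ₂P₂ : Q₂ ≤ P₂ := a₂.hQT.trans a₂.hTH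
  haveI : Finite ↥Q₂ :=
    Finite.of_injective (Subgroup.inclusion hQ₂P₂) (Subgroup.inclusion_injective hQ₂P₂)
  haveI : Finite ↥T :=
    Finite.of_injective (Subgroup.inclusion a₂.hTH) (Subgroup.inclusion_injective a₂.hTH)
  have hQ₂ne : Q₂ ≠ ⊥ := by
    intro hbot
    have hPQ : P₂ ≤ Q₂ := by
      intro g hg
      apply a₂.hCQ g hg
      intro q hq
      rw [hbot, Subgroup.mem_bot] at hq
      rw [hq, mul_one, one_mul]
    have h1 : Nat.card ↥P₂ ≤ Nat.card ↥T := Subgroup.card_le_of_le (hPQ.trans a₂.hQT)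
    have h2 := a₂.hHT
    have h3 : 0 < Nat.card ↥T := Nat.card_pos
    omega
  exact Cfsg.Agent.Lib.Helper74.Amal.exists_maxElab_not_le Q₂ (Q₁ ⊓ Q₂) inf_le_right P₁ P₂
    hnD a₂.hQn hQ₂ne (a₂.hT2.to_le a₂.hQT)
    (fun N hN h1 h2 => hcore N (hN.trans a₂.hQT) h1 h2)

end Cfsg.Agent.Lib.Helper74.S3Amal
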