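/-
S2858, helper45's claim (N), package NB: an exponent-2 subgroup `B ≤ D₁` lies in the
`L`-core of `D₁ ⊓ D₂` or of `D₁ ⊓ D₃`.
-/
import Cfsg.Agent.Lib.Helper45.S3Amal.NDefs
import Cfsg.Agent.Lib.Helper74.Amal.LemI

set_option autoImplicit false

namespace Cfsg.Agent.Lib.Helper74.S3Amal

open Cfsg.Agent.Lib.Helper71.Sym Cfsg.Agent.Lib.Helper45.S3Amal Cfsg.Agent.Lib.Helper74.Amal

universe u

/-- the conjugated form of (I2) -/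
theorem i2_conj {G : Type u} [Group G] (L S M : Subgroup G)
    (hI2 : ∀ g ∈ L, cj g S ≠ S → ∀ h ∈ L, M ⊓ cj g M ≤ cj h M) :
    ∀ y ∈ L, ∀ y' ∈ L, ∀ h ∈ L, cj y S ≠ cj y' S → cj y M ⊓ cj y' M ≤ cj h M := by
  intro y hy y' hy' h hh hne x hx
  have hx1 : x ∈ cj y M := hx.1
  have hx2 : x ∈ cj y' M := hx.2
  rw [mem_cj] at hx1 hx2 ⊢
  have hg : cj (y⁻¹ * y') S ≠ S := by
    intro hcon
    apply hne
    have : cj y' S = cj y (cj (y⁻¹ * y') S) := by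
      rw [← cj_mul, mul_inv_cancel_left]
    rw [this, hcon]
  have h1 : y⁻¹ * x * y ∈ M ⊓ cj (y⁻¹ * y') M := by
    refine ⟨hx1, ?_⟩
    show y⁻¹ * x * y ∈ cj (y⁻¹ * y') M
    rw [mem_cj]
    have e : (y⁻¹ * y')⁻¹ * (y⁻¹ * x * y) * (y⁻¹ * y') = y'⁻¹ * x * y' := by group
    rw [e]; exact hx2
  have h2 := hI2 (y⁻¹ * y') (L.mul_mem (L.inv_mem hy) hy') hg (y⁻¹ * h)
    (L.mul_mem (L.inv_mem hy) hh) h1
  rw [mem_cj] at h2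
  have e : (y⁻¹ * h)⁻¹ * (y⁻¹ * x * y) * (y⁻¹ * h) = h⁻¹ * x * h := by group
  rwa [e] at h2

/-- Step (3) in the shape of `PkgNB`. -/
theorem step3' {G : Type u} [Group G] (L S D₁ D₂ D₃ : Subgroup G) [Finite ↥L] (hSL : S ≤ L)
    (hLS : Nat.card ↥L = 3 * Nat.card ↥S) (hSnn : ∃ l ∈ L, ∃ s ∈ S, l * s * l⁻¹ ∉ S)
    (hD₁S : D₁ ≤ S) (hD₁n : ∀ l ∈ L, ∀ d ∈ D₁, l * d * l⁻¹ ∈ D₁)
    (hEA : ∀ g ∈ S, g * g = 1 → g ∈ D₂ ∨ g ∈ D₃)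
    (hI2 : ∀ g ∈ L, cj g S ≠ S → ∀ h ∈ L, (D₁ ⊓ D₂) ⊓ cj g (D₁ ⊓ D₂) ≤ cj h (D₁ ⊓ D₂))
    (hI3 : ∀ g ∈ L, cj g S ≠ S → ∀ h ∈ L, (D₁ ⊓ D₃) ⊓ cj g (D₁ ⊓ D₃) ≤ cj h (D₁ ⊓ D₃))
    (B : Subgroup G) (hBD : B ≤ D₁) (hB : ∀ b ∈ B, b * b = 1) :
    (∀ h ∈ L, B ≤ cj h (D₁ ⊓ D₂)) ∨ (∀ h ∈ L, B ≤ cj h (D₁ ⊓ D₃)) := by
  have hI2' := i2_conj L S (D₁ ⊓ D₂) hI2
  have hI3' := i2_conj L S (D₁ ⊓ D₃) hI3
  -- subgroup form of (EA)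
  have hEA' : ∀ C : Subgroup G, C ≤ S → (∀ c ∈ C, c * c = 1) → C ≤ D₂ ∨ C ≤ D₃ := by
    intro C hCS hC
    by_contra hcon
    push Not at hcon
    obtain ⟨hcon1, hcon2⟩ := hcon
    obtain ⟨c₁, hc₁C, hc₁⟩ := SetLike.not_le_iff_exists.mp hcon1
    obtain ⟨c₂, hc₂C, hc₂⟩ := SetLike.not_le_iff_exists.mp hcon2
    have h1 : c₁ ∈ D₃ := (hEA c₁ (hCS hc₁C) (hC c₁ hc₁C)).resolve_left hc₁
    have h2 : c₂ ∈ D₂ := (hEA c₂ (hCS hc₂C) (hC c₂ hc₂C)).resolve_right hc₂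
    rcases hEA (c₁ * c₂) (hCS (C.mul_mem hc₁C hc₂C)) (hC _ (C.mul_mem hc₁C hc₂C)) with h | h
    · have := D₂.mul_mem h (D₂.inv_mem h2)
      rw [mul_inv_cancel_right] at this
      exact hc₁ this
    · have := D₃.mul_mem (D₃.inv_mem h1) h
      rw [inv_mul_cancel_left] at this
      exact hc₂ this
  -- Step 1
  have h1 : ∀ h ∈ L, B ≤ cj h (D₁ ⊓ D₂) ∨ B ≤ cj h (D₁ ⊓ D₃) := by
    intro h hh
    have hB1 : cj h⁻¹ B ≤ D₁ := by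
      intro x hx
      rw [mem_cj] at hx
      have := hD₁n _ (L.inv_mem hh) _ (hBD hx)
      simpa [mul_assoc] using this
    have hBsq : ∀ b ∈ cj h⁻¹ B, b * b = 1 := by
      intro b hb
      rw [mem_cj] at hb
      have := hB _ hb
      have e : h⁻¹⁻¹ * b * h⁻¹ * (h⁻¹⁻¹ * b * h⁻¹) = h⁻¹⁻¹ * (b * b) * h⁻¹ := by group
      rw [e] at this
      have e2 : b * b = h⁻¹ * (h⁻¹⁻¹ * (b * b) * h⁻¹) * h := by group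
      rw [e2, this]; group
    have hBle : B ≤ cj h D₁ := by
      have := (cj_le_iff h⁻¹).mp hB1
      rwa [inv_inv] at this
    rcases hEA' _ (hB1.trans hD₁S) hBsq with h2 | h2
    · left
      have := (cj_le_iff h⁻¹).mp h2
      rw [inv_inv] at this
      rw [cj_inf]
      exact le_inf hBle this
    · right
      have := (cj_le_iff h⁻¹).mp h2
      rw [inv_inv] at this
      rw [cj_inf]
      exact le_inf hBle this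
  by_contra hcon
  push Not at hcon
  obtain ⟨⟨h₀, hh₀, hn₀⟩, ⟨h₁, hh₁, hn₁⟩⟩ := hcon
  have hB₀ : B ≤ cj h₀ (D₁ ⊓ D₃) := (h1 h₀ hh₀).resolve_left hn₀
  have hB₁ : B ≤ cj h₁ (D₁ ⊓ D₂) := (h1 h₁ hh₁).resolve_right hn₁
  obtain ⟨h₂, hh₂, hne₀, hne₁⟩ := exists_third L S hSL hLS hSnn hh₀ hh₁
  rcases h1 h₂ hh₂ with h | h
  · exact hn₀ ((le_inf hB₁ h).trans (hI2' h₁ hh₁ h₂ hh₂ h₀ hh₀ (Ne.symm hne₁)))
  · exact hn₁ ((le_inf hB₀ h).trans (hI3' h₀ hh₀ h₂ hh₂ h₁ hh₁ (Ne.symm hne₀)))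

theorem pkgNB : PkgNB.{u} := by
  intro G _ L S D₁ D₂ D₃ B hA _ _ _ hEA hI2 hI3 hBD hB
  haveI : Finite ↥L := hA.fin
  exact step3' L S D₁ D₂ D₃ hA.hTH hA.hHT hA.hTn hA.hQT hA.hQn hEA hI2 hI3 B hBD hB

end Cfsg.Agent.Lib.Helper74.S3Amal
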